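import Groth.Agent.AlgSpLib.LargestOpen
import Groth.Agent.AlgSpLib.LargestOpenTop
import Groth.Agent.AlgSpPts.OpenSub
import Groth.Agent.AlgStLib.SpProps
import Groth.Agent.AlgStLib.OverSpace

/-!
# Largest open subspaces with a property, abstractly
-/

set_option backward.isDefEq.respectTransparency false
set_option backward.isDefEq.respectTransparency.types false
set_option autoImplicit false

universe u

open CategoryTheory CategoryTheory.Limits AlgebraicGeometry Opposite AlgSp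
open Groth.Agent.AlgSpLib Groth.Agent.AlgStLib

namespace Groth.Agent.RepLarge49

variable {S : Scheme.{u}} {P Q R : MorphismProperty (Sp S)}

/-- `w` is the largest open subspace on which `f` has `P`. -/
def IsLargest (P : MorphismProperty (Sp S)) {X Y W : Space S} (f : X ⟶ Y) (w : W ⟶ X) : Prop :=
  RepWith @IsOpenImmersion w.hom ∧ P (w ≫ f).hom ∧
    ∀ (W₁ : Space S) (w₁ : W₁ ⟶ X), RepWith @IsOpenImmersion w₁.hom → P (w₁ ≫ f).hom → ∃ k : W₁ ⟶ W, k ≫ w = w₁

/-- Every map with `Q` has a largest open, compatible with base change along `R`. -/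
structure Hyp (P Q R : MorphismProperty (Sp S)) : Prop where
  pb : StableBC P
  qb : StableBC Q
  rb : StableBC R
  ploc : IsLocalOnBase IsFppfCover P
  qloc : IsLocalOnBase IsFppfCover Q
  rloc : IsLocalOnBase IsFppfCover R
  smooth : ∀ (X Y : Space S) (g : X ⟶ Y), LocP @Smooth g.hom → R g.hom
  ex : ∀ (X Y : Space S) (f : X ⟶ Y), Q f.hom → ∃ (W : Space S) (w : W ⟶ X), IsLargest P f w
  bc : ∀ (X Y X' Y' : Space S) (f : X ⟶ Y) (g : Y' ⟶ Y) (f' : X' ⟶ Y') (g' : X' ⟶ X),
      IsPullback g'.hom f'.hom f.hom g.hom → Q f.hom → R g.hom →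
      ∀ (W : Space S) (w : W ⟶ X), IsLargest P f w →
        ∀ (W' : Space S) (w' : W' ⟶ X') (k : W' ⟶ W), IsPullback k.hom w'.hom w.hom g'.hom → IsLargest P f' w'

variable {A B C : Sp S}

/-- The image of the largest open. -/
def LargeSet (P : MorphismProperty (Sp S)) {X Y : Space S} (f : X ⟶ Y) (O : Set (Points X.obj)) : Prop :=
  ∃ (W : Space S) (w : W ⟶ X), IsLargest P f w ∧ Set.range (Points.map w.hom) = O

theorem LargeSet.isOpen {X Y : Space S} {f : X ⟶ Y} {O : Set (Points X.obj)} (h : LargeSet P f O) : IsOpen O := by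
  obtain ⟨W, w, hw, rfl⟩ := h
  exact (isOpenMap_map_of_fppf W.property X.property w.hom
    (locP_of_openImmersion (fun g _ => inferInstanceAs (Flat g)) _ hw.1)
    (locP_of_openImmersion (fun g _ => inferInstanceAs (LocallyOfFinitePresentation g)) _ hw.1)).isOpen_range

theorem range_map_comp_subset {F G H : Sp S} (a : F ⟶ G) (b : G ⟶ H) :
    Set.range (Points.map (a ≫ b)) ⊆ Set.range (Points.map b) := by
  rintro _ ⟨x, rfl⟩
  exact ⟨Points.map a x, (Points.map_comp a b x).symm⟩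

theorem LargeSet.unique {X Y : Space S} {f : X ⟶ Y} {O O' : Set (Points X.obj)} (h : LargeSet P f O)
    (h' : LargeSet P f O') : O = O' := by
  obtain ⟨W, w, hw, rfl⟩ := h
  obtain ⟨W', w', hw', rfl⟩ := h'
  obtain ⟨k, hk⟩ := hw.2.2 W' w' hw'.1 hw'.2.1
  obtain ⟨k', hk'⟩ := hw'.2.2 W w hw.1 hw.2.1
  refine Set.Subset.antisymm ?_ ?_
  · rw [← hk']
    exact range_map_comp_subset k'.hom w'.hom
  · rw [← hk]
    exact range_map_comp_subset k.hom w.hom

theorem LargeSet.le {X Y : Space S} {f : X ⟶ Y} {O : Set (Points X.obj)} (h : LargeSet P f O)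
    {W₁ : Sp S} (hW₁ : IsAlgSpace W₁) (w₁ : W₁ ⟶ X.obj) (hw₁ : RepWith @IsOpenImmersion w₁)
    (hP : P (w₁ ≫ f.hom)) : Set.range (Points.map w₁) ⊆ O := by
  obtain ⟨W, w, hw, rfl⟩ := h
  obtain ⟨k, hk⟩ := hw.2.2 ⟨W₁, hW₁⟩ (ObjectProperty.homMk w₁) hw₁ hP
  rw [show w₁ = k.hom ≫ w.hom from congrArg InducedCategory.Hom.hom hk.symm]
  exact range_map_comp_subset k.hom w.hom

theorem LargeSet.property (hPb : StableBC P) {X Y : Space S} {f : X ⟶ Y} {O : Set (Points X.obj)}
    (h : LargeSet P f O) {W₁ : Sp S} (hW₁ : IsAlgSpace W₁) (w₁ : W₁ ⟶ X.obj) (hw₁ : RepWith @IsOpenImmersion w₁)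
    (hr : Set.range (Points.map w₁) = O) : P (w₁ ≫ f.hom) := by
  obtain ⟨W, w, hw, rfl⟩ := h
  obtain ⟨l, hl⟩ := exists_lift_openImmersion hW₁ W.property X.property hw.1 w₁ hr.le
  obtain ⟨l', hl'⟩ := exists_lift_openImmersion W.property hW₁ X.property hw₁ w.hom hr.ge
  have : Mono w.hom := AlgSpDec.mono_of_openImmersion hw.1
  have : Mono w₁ := AlgSpDec.mono_of_openImmersion hw₁
  have : IsIso l := ⟨⟨l', by rw [← cancel_mono w₁, Category.assoc, hl', hl, Category.id_comp],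
    by rw [← cancel_mono w.hom, Category.assoc, hl, hl', Category.id_comp]⟩⟩
  refine hPb W.property Y.property hW₁ Y.property (w.hom ≫ f.hom) (𝟙 Y.obj) (w₁ ≫ f.hom) l ?_ hw.2.1
  exact IsPullback.of_horiz_isIso ⟨by rw [← Category.assoc, hl, Category.comp_id]⟩

theorem Hyp.exists_largeSet (H : Hyp P Q R) {X Y : Space S} (f : X ⟶ Y) (hf : Q f.hom) :
    ∃ O, LargeSet P f O := by
  obtain ⟨W, w, hw⟩ := H.ex X Y f hf
  exact ⟨_, W, w, hw, rfl⟩

/-- Largest opens pull back along `R`. -/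
theorem Hyp.largeSet_baseChange (H : Hyp P Q R) {X Y X' Y' : Space S} {f : X ⟶ Y} {g : Y' ⟶ Y} {f' : X' ⟶ Y'}
    {g' : X' ⟶ X} (sq : IsPullback g'.hom f'.hom f.hom g.hom) (hf : Q f.hom) (hg : R g.hom)
    {O : Set (Points X.obj)} (h : LargeSet P f O) : LargeSet P f' (Points.map g'.hom ⁻¹' O) := by
  obtain ⟨W, w, hw, rfl⟩ := h
  have hA : IsAlgSpace (pullback w.hom g'.hom) := isAlgSpace_pullback W.property X'.property X.property _ _
  refine ⟨⟨_, hA⟩, ObjectProperty.homMk (pullback.snd w.hom g'.hom),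
    H.bc X Y X' Y' f g f' g' sq hf hg W w hw ⟨_, hA⟩ _ (ObjectProperty.homMk (pullback.fst w.hom g'.hom))
      (IsPullback.of_hasPullback _ _), ?_⟩
  show Set.range (Points.map (pullback.snd w.hom g'.hom)) = _
  refine Set.Subset.antisymm ?_ ?_
  · rintro _ ⟨x, rfl⟩
    refine ⟨Points.map (pullback.fst w.hom g'.hom) x, ?_⟩
    rw [← Points.map_comp, pullback.condition, Points.map_comp]
  · rintro x ⟨y, hy⟩
    obtain ⟨z, -, hz⟩ := exists_point_of_isPullback (IsPullback.of_hasPullback w.hom g'.hom) hy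
    exact ⟨z, hz⟩

end Groth.Agent.RepLarge49
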