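import Groth.Agent.RepLarge49.Space
import Groth.Agent.AlgStLib.OpenSubChart
import Groth.Agent.AlgStLib.UnivPts
import Groth.Agent.AlgStLib.LocQInst

/-!
# The largest open substack on which a representable functor has a property
-/

set_option backward.isDefEq.respectTransparency false
set_option backward.isDefEq.respectTransparency.types false
set_option autoImplicit false

universe u

open CategoryTheory CategoryTheory.Functor CategoryTheory.Limits AlgebraicGeometry Opposite AlgSp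
open Groth.Agent.FibBase Groth.Agent.AlgSpLib Groth.Agent.AlgStLib

namespace Groth.Agent.RepLarge49

variable {S : Scheme.{u}} {𝒳 𝒴 𝒵 𝒲 : AlgSt.Cat S} {P Q R : MorphismProperty (Sp S)}

local notation "K₀" => Scheme.fppfPrecoverage

/-- Isomorphisms of functors into a fibre product. -/
def fpFunIso {𝒮 : AlgSt.Cat S} {F : 𝒳 ⥤ᵇ 𝒮} {G : 𝒴 ⥤ᵇ 𝒮} {Φ Ψ : 𝒲 ⥤ᵇ FibCat.fp F G}
    (α : BasedFunctor.comp Φ (FibCat.fpFst F G) ≅ BasedFunctor.comp Ψ (FibCat.fpFst F G))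
    (β : BasedFunctor.comp Φ (FibCat.fpSnd F G) ≅ BasedFunctor.comp Ψ (FibCat.fpSnd F G))
    (w : ∀ x, F.map (isoApp α x).hom ≫ (Ψ.obj x).obj.iso.hom = (Φ.obj x).obj.iso.hom ≫ G.map (isoApp β x).hom) :
    Φ ≅ Ψ :=
  BasedNatIso.mkNatIso
    (NatIso.ofComponents (fun x => fpIsoMk (isoApp α x) (isoApp β x) (w x))
      (fun {x x'} φ => by
        refine ObjectProperty.hom_ext _ (CategoricalPullback.hom_ext ?_ ?_)
        · exact natural α φ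
        · exact natural β φ))
    (fun x => fp_isHomLift (F := F) (G := G) (𝟙 _) _ (h := isoApp_lift α rfl))

/-- Change of the chart: `Z' ×_𝒴 𝒳 ⟶ Z ×_𝒴 𝒳`. -/
def changeMap (k : 𝒲 ⥤ᵇ 𝒵) (y : 𝒵 ⥤ᵇ 𝒴) (f : 𝒳 ⥤ᵇ 𝒴) :
    FibCat.fp (BasedFunctor.comp k y) f ⥤ᵇ FibCat.fp y f :=
  fpMap (F := y) (G := f) (F' := BasedFunctor.comp k y) (G' := f) (a := k) (b := BasedFunctor.id _)
    (c := BasedFunctor.id _) (Iso.refl _) (Iso.refl _)

def pasteVertChange (k : 𝒲 ⥤ᵇ 𝒵) (y : 𝒵 ⥤ᵇ 𝒴) (f : 𝒳 ⥤ᵇ 𝒴) :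
    BasedFunctor.comp (pasteVert k y f) (changeMap k y f) ≅ FibCat.fpSnd k (FibCat.fpFst y f) :=
  fpFunIso
    (Φ := BasedFunctor.comp (pasteVert k y f) (changeMap k y f)) (Ψ := FibCat.fpSnd k (FibCat.fpFst y f))
    (FibCat.fpIso k (FibCat.fpFst y f)) (Iso.refl _) (fun x => by
      show y.map x.obj.iso.hom ≫ x.obj.snd.obj.iso.hom =
        (𝟙 _ ≫ (y.map x.obj.iso.hom ≫ x.obj.snd.obj.iso.hom) ≫ 𝟙 _) ≫ f.map (𝟙 _)
      simp)

/-- A chart of the target and the algebraic space representing its base change. -/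
structure Chart (Q : MorphismProperty (Sp S)) (f : 𝒳 ⥤ᵇ 𝒴) where
  V : AlgSp.Space S
  F : AlgSp.Space S
  y : AlgSt.ofSp V.obj ⥤ᵇ 𝒴
  a : F ⟶ V
  e : AlgSt.ofSp F.obj ⥤ᵇ FibCat.fp y f
  he : FibCat.IsEquivOver e
  i : BasedFunctor.comp e (FibCat.fpFst y f) ≅ AlgSt.ofSpMap a.hom
  hQ : Q a.hom
  hy : AlgSt.RepByAlgSpWith (LocP @Smooth) y
  hy' : AlgSt.RepByAlgSpWith IsSurjectiveMor y

theorem exists_chart (H : Hyp P Q R) (h𝒳 : AlgSt.IsAlgStack K₀ 𝒳) (h𝒴 : AlgSt.IsAlgStack K₀ 𝒴)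
    {f : 𝒳 ⥤ᵇ 𝒴} (hf : AlgSt.RepByAlgSpWith Q f) : Nonempty (Chart Q f) := by
  obtain ⟨V, y, hy, hy'⟩ := exists_space_atlas h𝒴
  obtain ⟨F, a, e, he, ⟨i⟩, hQ⟩ := exists_space_fp H.qb H.qloc h𝒳.isStack.1 h𝒴.isStack.1 hf V y
  exact ⟨⟨V, F, y, a, e, he, i, hQ, hy, hy'⟩⟩

variable {f : 𝒳 ⥤ᵇ 𝒴}

/-- The chart of the source. -/
abbrev Chart.p (C : Chart Q f) : AlgSt.ofSp C.F.obj ⥤ᵇ 𝒳 := BasedFunctor.comp C.e (FibCat.fpSnd C.y f)

theorem Chart.smooth_p (C : Chart Q f) : AlgSt.RepByAlgSpWith (LocP @Smooth) C.p :=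
  repByAlgSpWith_precomp C.he (repByAlgSpWith_fpSnd f C.hy)

theorem Chart.surjective_p (C : Chart Q f) (h𝒳 : AlgSt.IsAlgStack K₀ 𝒳) : AlgSt.IsSurjective C.p :=
  isSurjective_of_repByAlgSpWith (isFibGrpd_ofSp C.F.obj) h𝒳.isStack.1 (isAlgStack_ofSp C.F).atlas
    (repByAlgSpWith_precomp C.he (repByAlgSpWith_fpSnd f C.hy'))

theorem Chart.locEssSurj_y (C : Chart Q f) : LocEssSurj C.y := locEssSurj_of_atlas C.hy C.hy'

/-- The two sides of a chart agree on `𝒴`. -/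
def Chart.τ (C : Chart Q f) :
    BasedFunctor.comp (AlgSt.ofSpMap C.a.hom) C.y ≅ BasedFunctor.comp C.p f :=
  whiskerRightIso C.i.symm C.y ≪≫ whiskerLeftIso C.e (FibCat.fpIso C.y f)

/-- The open subspace over an open substack represents the base change of its inclusion. -/
theorem Chart.exists_restrict (C : Chart Q f) (h𝒳 : AlgSt.IsAlgStack K₀ 𝒳) {T : Set (AlgSt.Points 𝒳)}
    (hT : IsOpen T) :
    ∃ (W : AlgSp.Space S) (j : W ⟶ C.F) (E : AlgSt.ofSp W.obj ⥤ᵇ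
      FibCat.fp C.y (BasedFunctor.comp (AlgSt.subIncl 𝒳 (PtsIn T)) f)),
      RepWith @IsOpenImmersion j.hom ∧ FibCat.IsEquivOver E ∧
      Nonempty (BasedFunctor.comp E (FibCat.fpFst C.y (BasedFunctor.comp (AlgSt.subIncl 𝒳 (PtsIn T)) f)) ≅
        AlgSt.ofSpMap (j ≫ C.a).hom) ∧
      Set.range (AlgSp.Points.map j.hom) = spPt '' (AlgSt.Points.map C.p ⁻¹' T) := by
  let incl := AlgSt.subIncl 𝒳 (PtsIn T)
  have hg := isFibGrpd_ptsIn h𝒳.isStack.1 T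
  have hI : AlgSt.RepByAlgSpWith (RepWith @IsOpenImmersion) incl := isOpenImm_ptsIn h𝒳 hT
  obtain ⟨W, e', he'⟩ := exists_space_fp_equiv hg h𝒳.isStack.1 (repByAlgSp1_of_repByAlgSpWith hI) C.F C.p
  let j₀ := spHom (BasedFunctor.comp e' (FibCat.fpFst C.p incl))
  have hj : RepWith @IsOpenImmersion j₀ :=
    property_spHom_fpFst (stableBC_of (P := RepWith @IsOpenImmersion))
      (fun _ _ c hc => repWith_of_repBySpWith c hc) C.F.property W.property hI e' he'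
  let m := fpMap (F := FibCat.fpSnd C.y f) (G := incl) (F' := C.p) (G' := incl) (a := C.e)
    (b := BasedFunctor.id _) (c := BasedFunctor.id _) (Iso.refl _) (Iso.refl _)
  have hm : FibCat.IsEquivOver m := fpMap_isEquivOver _ _ C.he isEquivOver_id
  let E := BasedFunctor.comp e' (BasedFunctor.comp m (pasteHor C.y incl f))
  refine ⟨W, ObjectProperty.homMk j₀, E, hj,
    isEquivOver_comp he' (isEquivOver_comp hm (pasteHor_isEquivOver _ _ _)), ⟨?_⟩, ?_⟩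
  · exact whiskerRightIso (isoOfSpMap (BasedFunctor.comp e' (FibCat.fpFst C.p incl)))
        (BasedFunctor.comp C.e (FibCat.fpFst C.y f)) ≪≫
      whiskerLeftIso (AlgSt.ofSpMap j₀) C.i ≪≫
      isoOfSpMap (BasedFunctor.comp (AlgSt.ofSpMap j₀) (AlgSt.ofSpMap C.a.hom)) ≪≫
      eqToIso (congrArg (fun m => AlgSt.ofSpMap m) (by
        rw [spHom_comp, spHom_ofSpMap, spHom_ofSpMap]
        rfl))
  · show Set.range (AlgSp.Points.map j₀) = _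
    refine Set.Subset.antisymm ?_ ?_
    · rintro _ ⟨x, rfl⟩
      obtain ⟨w, rfl⟩ := spPt_bijective.2 x
      refine ⟨AlgSt.Points.map (AlgSt.ofSpMap j₀) w, ?_, spPt_map_ofSpMap _ _⟩
      show AlgSt.Points.map C.p (AlgSt.Points.map (AlgSt.ofSpMap j₀) w) ∈ T
      rw [← pts_map_comp, pts_map_congr (whiskerRightIso (isoOfSpMap (BasedFunctor.comp e' (FibCat.fpFst C.p incl))).symm C.p
        ≪≫ whiskerLeftIso e' (FibCat.fpIso C.p incl)) w]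
      show AlgSt.Points.map (BasedFunctor.comp (BasedFunctor.comp e' (FibCat.fpSnd C.p incl)) incl) w ∈ T
      rw [pts_map_comp]
      exact (range_subIncl_ptsIn (T := T)).subset ⟨_, rfl⟩
    · rintro _ ⟨t, ht, rfl⟩
      obtain ⟨x, hx⟩ := (range_subIncl_ptsIn (T := T)).symm.subset ht
      obtain ⟨w, hw, -⟩ := exists_pts_fp hg h𝒳.isStack.1 (isFibGrpd_ofSp C.F.obj) incl C.p t x hx.symm
      obtain ⟨w', rfl⟩ := (pts_bijective_of_isEquivOver he').2 w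
      refine ⟨spPt w', ?_⟩
      rw [← spPt_map_ofSpMap, ← hw, ← pts_map_comp]
      exact congrArg spPt (pts_map_congr (isoOfSpMap _).symm w')

theorem Chart.rep_iff (C : Chart Q f) (H : Hyp P Q R) (h𝒳 : AlgSt.IsAlgStack K₀ 𝒳) (hf : AlgSt.RepByAlgSp1 f)
    {T : Set (AlgSt.Points 𝒳)} (hT : IsOpen T) :
    AlgSt.RepByAlgSpWith P (BasedFunctor.comp (AlgSt.subIncl 𝒳 (PtsIn T)) f) ↔
      ∃ (W : AlgSp.Space S) (j : W ⟶ C.F), RepWith @IsOpenImmersion j.hom ∧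
        Set.range (AlgSp.Points.map j.hom) = spPt '' (AlgSt.Points.map C.p ⁻¹' T) ∧ P (j ≫ C.a).hom := by
  obtain ⟨W, j, E, hj, hE, ⟨iE⟩, hr⟩ := C.exists_restrict h𝒳 hT
  refine ⟨fun h => ⟨W, j, hj, hr, ?_⟩, ?_⟩
  · have := property_spHom_fpFst H.pb (fun hF hG _ ha => property_of_repBySpWith H.ploc hF hG ha)
      C.V.property W.property h E hE
    rwa [spHom_congr iE, spHom_ofSpMap] at this
  · rintro ⟨W₁, j₁, hj₁, hr₁, hP⟩
    obtain ⟨l, hl⟩ := exists_lift_openImmersion W.property W₁.property C.F.property hj₁ j.hom (hr.trans hr₁.symm).le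
    obtain ⟨l', hl'⟩ := exists_lift_openImmersion W₁.property W.property C.F.property hj j₁.hom (hr₁.trans hr.symm).le
    have : Mono j₁.hom := AlgSpDec.mono_of_openImmersion hj₁
    have : Mono j.hom := AlgSpDec.mono_of_openImmersion hj
    have : IsIso l := ⟨⟨l', by rw [← cancel_mono j.hom, Category.assoc, hl', hl, Category.id_comp],
      by rw [← cancel_mono j₁.hom, Category.assoc, hl, hl', Category.id_comp]⟩⟩
    have hP' : P (j ≫ C.a).hom := H.pb W₁.property C.V.property W.property C.V.property (j₁ ≫ C.a).hom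
      (𝟙 C.V.obj) (j ≫ C.a).hom l (IsPullback.of_horiz_isIso ⟨by
        show l ≫ j₁.hom ≫ C.a.hom = (j.hom ≫ C.a.hom) ≫ 𝟙 _
        rw [← Category.assoc, hl, Category.comp_id]⟩) hP
    have hincl : AlgSt.RepByAlgSp1 (BasedFunctor.comp (AlgSt.subIncl 𝒳 (PtsIn T)) f) :=
      repByAlgSp1_comp (isFibGrpd_ptsIn h𝒳.isStack.1 T) h𝒳.isStack.1
        (repByAlgSp1_of_repByAlgSpWith (isOpenImm_ptsIn h𝒳 hT)) hf
    exact repByAlgSpWith_of_locEssSurj H.pb H.ploc hincl C.locEssSurj_y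
      ((repByAlgSpWith_iff_of_square (f' := AlgSt.ofSpMap (j ≫ C.a).hom)
        (f := FibCat.fpFst C.y (BasedFunctor.comp (AlgSt.subIncl 𝒳 (PtsIn T)) f)) (a := E)
        (b := BasedFunctor.id _) hE isEquivOver_id iE.symm).2
        (repByAlgSpWith_ofSpMap H.pb W.property C.V.property _ hP'))

/-- The base change of a chart. -/
theorem Chart.exists_change (C : Chart Q f) (V' : AlgSp.Space S)
    (k : AlgSt.ofSp V'.obj ⥤ᵇ AlgSt.ofSp C.V.obj) :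
    ∃ (F' : AlgSp.Space S) (q : F' ⟶ C.F) (b : F' ⟶ V')
      (E : AlgSt.ofSp F'.obj ⥤ᵇ FibCat.fp (BasedFunctor.comp k C.y) f),
      IsPullback q.hom b.hom C.a.hom (spHom k) ∧ FibCat.IsEquivOver E ∧
      Nonempty (BasedFunctor.comp E (FibCat.fpFst (BasedFunctor.comp k C.y) f) ≅ AlgSt.ofSpMap b.hom) ∧
      Nonempty (BasedFunctor.comp E (changeMap k C.y f) ≅ BasedFunctor.comp (AlgSt.ofSpMap q.hom) C.e) := by
  let F' : AlgSp.Space S := ⟨pullback (spHom k) C.a.hom,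
    isAlgSpace_pullback V'.property C.F.property C.V.property _ _⟩
  obtain ⟨K, hK, ⟨j₁⟩, ⟨j₂⟩⟩ := exists_spCone (IsPullback.of_hasPullback (spHom k) C.a.hom)
  have : (BasedFunctor.id (AlgSt.ofSp C.V.obj)).toFunctor.Full := inferInstanceAs (𝟭 _).Full
  have : (BasedFunctor.id (AlgSt.ofSp C.V.obj)).toFunctor.Faithful := inferInstanceAs (𝟭 _).Faithful
  let m := fpMap (F := k) (G := FibCat.fpFst C.y f) (F' := AlgSt.ofSpMap (spHom k)) (G' := AlgSt.ofSpMap C.a.hom)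
    (a := BasedFunctor.id _) (b := C.e) (c := BasedFunctor.id _) (isoOfSpMap k) C.i.symm
  let E := BasedFunctor.comp K (BasedFunctor.comp m (pasteVert k C.y f))
  refine ⟨F', ObjectProperty.homMk (pullback.snd (spHom k) C.a.hom),
    ObjectProperty.homMk (pullback.fst (spHom k) C.a.hom), E, (IsPullback.of_hasPullback _ _).flip,
    isEquivOver_comp hK (isEquivOver_comp (fpMap_isEquivOver _ _ isEquivOver_id C.he) (pasteVert_isEquivOver _ _ _)),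
    ⟨j₁⟩, ⟨?_⟩⟩
  exact whiskerLeftIso (BasedFunctor.comp K m) (pasteVertChange k C.y f) ≪≫ whiskerRightIso j₂ C.e

/-- The largest open of the chart is stable under the equivalence relation of the chart. -/
theorem Chart.invariant (C : Chart Q f) (H : Hyp P Q R) (h𝒳 : AlgSt.IsAlgStack K₀ 𝒳)
    (h𝒴 : AlgSt.IsAlgStack K₀ 𝒴) {O : Set (AlgSp.Points C.F.obj)} (hO : LargeSet P C.a O)
    (u u' : AlgSt.Points (AlgSt.ofSp C.F.obj)) (h : AlgSt.Points.map C.p u = AlgSt.Points.map C.p u')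
    (hu : spPt u ∈ O) : spPt u' ∈ O := by
  obtain ⟨R₀, eR, heR⟩ := exists_space_fp_equiv (isFibGrpd_ofSp C.V.obj) h𝒴.isStack.1
    (repByAlgSp1_of_repByAlgSpWith C.hy) C.V C.y
  let pr₁ := FibCat.fpFst C.y C.y
  let pr₂ := FibCat.fpSnd C.y C.y
  let k₁ := BasedFunctor.comp eR pr₁
  let k₂ := BasedFunctor.comp eR pr₂
  have hk₁ : R (spHom k₁) := H.smooth R₀ C.V (ObjectProperty.homMk (spHom k₁))
    (locP_spHom_fpFst C.V.property R₀.property C.hy eR heR)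
  have hk₂ : R (spHom k₂) := H.smooth R₀ C.V (ObjectProperty.homMk (spHom k₂))
    (locP_spHom_fpSnd C.V.property R₀.property C.hy eR heR)
  obtain ⟨F₁, q₁, b₁, E₁, sq₁, hE₁, ⟨i₁⟩, ⟨c₁⟩⟩ := C.exists_change R₀ k₁
  obtain ⟨F₂, q₂, b₂, E₂, sq₂, hE₂, ⟨i₂⟩, ⟨c₂⟩⟩ := C.exists_change R₀ k₂
  have : (BasedFunctor.id 𝒴).toFunctor.Full := inferInstanceAs (𝟭 _).Full
  have : (BasedFunctor.id 𝒴).toFunctor.Faithful := inferInstanceAs (𝟭 _).Faithful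
  let up₁ := fpMap (F := BasedFunctor.comp pr₁ C.y) (G := f) (F' := BasedFunctor.comp k₁ C.y) (G' := f) (a := eR)
    (b := BasedFunctor.id _) (c := BasedFunctor.id _) (Iso.refl _) (Iso.refl _)
  let up₂ := fpMap (F := BasedFunctor.comp pr₂ C.y) (G := f) (F' := BasedFunctor.comp k₂ C.y) (G' := f) (a := eR)
    (b := BasedFunctor.id _) (c := BasedFunctor.id _) (Iso.refl _) (Iso.refl _)
  let m₁₂ := fpMap (F := BasedFunctor.comp pr₂ C.y) (G := f) (F' := BasedFunctor.comp pr₁ C.y) (G' := f)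
    (a := BasedFunctor.id _) (b := BasedFunctor.id _) (c := BasedFunctor.id _) (FibCat.fpIso C.y C.y).symm
    (Iso.refl _)
  have hup₁ : FibCat.IsEquivOver up₁ := fpMap_isEquivOver _ _ heR isEquivOver_id
  have hup₂ : FibCat.IsEquivOver up₂ := fpMap_isEquivOver _ _ heR isEquivOver_id
  have hm₁₂ : FibCat.IsEquivOver m₁₂ := fpMap_isEquivOver _ _ isEquivOver_id isEquivOver_id
  obtain ⟨B, hB, -, ⟨jB⟩⟩ := isEquivOver_inv (isEquivOver_comp hE₂ hup₂)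
  let Φ := BasedFunctor.comp (BasedFunctor.comp E₁ (BasedFunctor.comp up₁ m₁₂)) B
  have hΦ : FibCat.IsEquivOver Φ := isEquivOver_comp (isEquivOver_comp hE₁ (isEquivOver_comp hup₁ hm₁₂)) hB
  let φ := spHom Φ
  have : IsIso φ := isIso_spHom hΦ
  have hb : φ ≫ b₂.hom = b₁.hom := by
    obtain ⟨G, -, ⟨jG⟩, -⟩ := isEquivOver_inv heR
    let i' : BasedFunctor.comp (BasedFunctor.comp Φ (AlgSt.ofSpMap b₂.hom)) eR ≅
        BasedFunctor.comp (AlgSt.ofSpMap b₁.hom) eR :=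
      whiskerRightIso (whiskerLeftIso Φ i₂.symm) eR ≪≫
        whiskerRightIso (whiskerLeftIso (BasedFunctor.comp E₁ (BasedFunctor.comp up₁ m₁₂)) jB)
          (FibCat.fpFst (BasedFunctor.comp pr₂ C.y) f) ≪≫
        whiskerRightIso i₁ eR
    let i'' : BasedFunctor.comp Φ (AlgSt.ofSpMap b₂.hom) ≅ AlgSt.ofSpMap b₁.hom :=
      (whiskerLeftIso (BasedFunctor.comp Φ (AlgSt.ofSpMap b₂.hom)) jG).symm ≪≫ whiskerRightIso i' G ≪≫
        whiskerLeftIso (AlgSt.ofSpMap b₁.hom) jG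
    have := spHom_congr i''
    rwa [spHom_comp, spHom_ofSpMap, spHom_ofSpMap] at this
  have sq₁₂ : IsPullback (φ ≫ q₂.hom) b₁.hom C.a.hom (spHom k₂) :=
    IsPullback.of_iso sq₂ (asIso φ).symm (Iso.refl _) (Iso.refl _) (Iso.refl _) (by simp) (by simp [← hb])
      (by simp) (by simp)
  have hA : LargeSet P b₁ (AlgSp.Points.map q₁.hom ⁻¹' O) :=
    H.largeSet_baseChange (g := ObjectProperty.homMk (spHom k₁)) sq₁ C.hQ hk₁ hO
  have hB' : LargeSet P b₁ (AlgSp.Points.map (φ ≫ q₂.hom) ⁻¹' O) :=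
    H.largeSet_baseChange (g := ObjectProperty.homMk (spHom k₂)) (g' := ObjectProperty.homMk (φ ≫ q₂.hom))
      sq₁₂ C.hQ hk₂ hO
  have hsame := hA.unique hB'
  -- the point over the pair
  let π₁ := FibCat.fpFst C.p C.p
  let π₂ := FibCat.fpSnd C.p C.p
  let Ψ : FibCat.fp C.p C.p ⥤ᵇ FibCat.fp C.y C.y :=
    FibCat.fpLift (BasedFunctor.comp π₁ (AlgSt.ofSpMap C.a.hom)) (BasedFunctor.comp π₂ (AlgSt.ofSpMap C.a.hom))
      (whiskerLeftIso π₁ C.τ ≪≫ whiskerRightIso (FibCat.fpIso C.p C.p) f ≪≫ (whiskerLeftIso π₂ C.τ).symm)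
  let N : FibCat.fp C.p C.p ⥤ᵇ FibCat.fp (BasedFunctor.comp pr₁ C.y) f :=
    FibCat.fpLift Ψ (BasedFunctor.comp π₁ C.p) (whiskerLeftIso π₁ C.τ)
  let n₁ : BasedFunctor.comp N (changeMap pr₁ C.y f) ≅ BasedFunctor.comp π₁ C.e :=
    fpFunIso (Φ := BasedFunctor.comp N (changeMap pr₁ C.y f)) (Ψ := BasedFunctor.comp π₁ C.e)
      (whiskerLeftIso π₁ C.i.symm) (Iso.refl _) (fun x => by
        show C.y.map (isoApp C.i x.obj.fst).inv ≫ (C.e.obj x.obj.fst).obj.iso.hom =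
          (𝟙 _ ≫ (C.y.map (isoApp C.i x.obj.fst).inv ≫ (C.e.obj x.obj.fst).obj.iso.hom) ≫ 𝟙 _) ≫ f.map (𝟙 _)
        simp)
  let n₂ : BasedFunctor.comp (BasedFunctor.comp N m₁₂) (changeMap pr₂ C.y f) ≅ BasedFunctor.comp π₂ C.e :=
    fpFunIso (Φ := BasedFunctor.comp (BasedFunctor.comp N m₁₂) (changeMap pr₂ C.y f))
      (Ψ := BasedFunctor.comp π₂ C.e) (whiskerLeftIso π₂ C.i.symm) (FibCat.fpIso C.p C.p) (fun x => by
        let τ₁ := isoApp C.τ x.obj.fst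
        let τ₂ := isoApp C.τ x.obj.snd
        let σ := f.toFunctor.mapIso x.obj.iso
        show C.y.map (isoApp C.i x.obj.snd).inv ≫ (C.e.obj x.obj.snd).obj.iso.hom =
          (𝟙 _ ≫ ((τ₁ ≪≫ σ ≪≫ τ₂.symm).inv ≫ τ₁.hom ≫ 𝟙 _) ≫ 𝟙 _) ≫ σ.hom
        simp
        rfl)
  obtain ⟨w, hw₁, hw₂⟩ := exists_pts_fp (isFibGrpd_ofSp C.F.obj) h𝒳.isStack.1 (isFibGrpd_ofSp C.F.obj)
    C.p C.p u u' h
  obtain ⟨t, ht⟩ := (pts_bijective_of_isEquivOver (isEquivOver_comp hE₁ hup₁)).2 (AlgSt.Points.map N w)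
  have heq : Function.Injective (AlgSt.Points.map C.e) := (pts_bijective_of_isEquivOver C.he).1
  have e₁ : AlgSt.Points.map (AlgSt.ofSpMap q₁.hom) t = u := by
    refine heq ?_
    rw [← pts_map_comp, ← pts_map_congr c₁ t, ← hw₁, ← pts_map_comp, ← pts_map_congr n₁ w, pts_map_comp,
      pts_map_comp, ← ht, ← pts_map_comp, ← pts_map_comp]
    exact pts_map_congr (fpFunIso (Φ := BasedFunctor.comp E₁ (changeMap k₁ C.y f))
      (Ψ := BasedFunctor.comp (BasedFunctor.comp E₁ up₁) (changeMap pr₁ C.y f)) (Iso.refl _) (Iso.refl _)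
      (fun x => by
        let o := E₁.obj x
        show C.y.map (𝟙 _) ≫ (𝟙 _ ≫ (𝟙 _ ≫ o.obj.iso.hom ≫ 𝟙 _) ≫ 𝟙 _) =
          (𝟙 _ ≫ o.obj.iso.hom ≫ 𝟙 _) ≫ f.map (𝟙 _)
        simp)) t
  have e₂ : AlgSt.Points.map (AlgSt.ofSpMap q₂.hom) (AlgSt.Points.map Φ t) = u' := by
    refine heq ?_
    rw [← pts_map_comp (AlgSt.ofSpMap q₂.hom), ← pts_map_congr c₂ _, ← hw₂, ← pts_map_comp π₂ C.e,
      ← pts_map_congr n₂ w, pts_map_comp (BasedFunctor.comp N m₁₂) (changeMap pr₂ C.y f), pts_map_comp N m₁₂, ← ht]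
    simp only [← pts_map_comp]
    exact pts_map_congr (fpFunIso
        (Φ := BasedFunctor.comp Φ (BasedFunctor.comp E₂ (changeMap k₂ C.y f)))
        (Ψ := BasedFunctor.comp (BasedFunctor.comp Φ (BasedFunctor.comp E₂ up₂)) (changeMap pr₂ C.y f))
        (Iso.refl _) (Iso.refl _) (fun x => by
          let o := E₂.obj (Φ.obj x)
          show C.y.map (𝟙 _) ≫ (𝟙 _ ≫ (𝟙 _ ≫ o.obj.iso.hom ≫ 𝟙 _) ≫ 𝟙 _) =
            (𝟙 _ ≫ o.obj.iso.hom ≫ 𝟙 _) ≫ f.map (𝟙 _)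
          simp) ≪≫
      whiskerRightIso (whiskerLeftIso (BasedFunctor.comp E₁ (BasedFunctor.comp up₁ m₁₂)) jB)
        (changeMap pr₂ C.y f)) t
  have h1 : spPt t ∈ AlgSp.Points.map q₁.hom ⁻¹' O := by
    rw [Set.mem_preimage, ← spPt_map_ofSpMap, e₁]
    exact hu
  have e₃ : AlgSp.Points.map φ (spPt t) = spPt (AlgSt.Points.map Φ t) := by
    rw [← spPt_map_ofSpMap, pts_map_congr (isoOfSpMap Φ) t]
  rw [hsame, Set.mem_preimage, AlgSp.Points.map_comp, e₃, ← spPt_map_ofSpMap, e₂] at h1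
  exact h1

/-- The points of the largest open substack. -/
def Chart.largePts (C : Chart Q f) (O : Set (AlgSp.Points C.F.obj)) : Set (AlgSt.Points 𝒳) :=
  AlgSt.Points.map C.p '' (spPt ⁻¹' O)

theorem Chart.isOpen_largePts (C : Chart Q f) (h𝒳 : AlgSt.IsAlgStack K₀ 𝒳) {O : Set (AlgSp.Points C.F.obj)}
    (hO : LargeSet P C.a O) : IsOpen (C.largePts O) :=
  isOpenMap_pts_map_ofSp h𝒳.isStack.1 C.F (repByAlgSpWith_flat_of_smooth C.smooth_p)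
    (repByAlgSpWith_lfp_of_smooth C.smooth_p) _ (hO.isOpen.preimage (isHomeomorph_spPt C.F.property).continuous)

theorem Chart.preimage_largePts (C : Chart Q f) (H : Hyp P Q R) (h𝒳 : AlgSt.IsAlgStack K₀ 𝒳)
    (h𝒴 : AlgSt.IsAlgStack K₀ 𝒴) {O : Set (AlgSp.Points C.F.obj)} (hO : LargeSet P C.a O) :
    spPt '' (AlgSt.Points.map C.p ⁻¹' C.largePts O) = O := by
  refine Set.Subset.antisymm ?_ fun x hx => ?_
  · rintro _ ⟨u', ⟨u, hu, he⟩, rfl⟩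
    exact C.invariant H h𝒳 h𝒴 hO u u' he hu
  · obtain ⟨u, rfl⟩ := spPt_bijective.2 x
    exact ⟨u, ⟨u, hx, rfl⟩, rfl⟩

theorem Chart.rep_largePts (C : Chart Q f) (H : Hyp P Q R) (h𝒳 : AlgSt.IsAlgStack K₀ 𝒳)
    (h𝒴 : AlgSt.IsAlgStack K₀ 𝒴) (hf : AlgSt.RepByAlgSp1 f) {O : Set (AlgSp.Points C.F.obj)}
    (hO : LargeSet P C.a O) :
    AlgSt.RepByAlgSpWith P (BasedFunctor.comp (AlgSt.subIncl 𝒳 (PtsIn (C.largePts O))) f) := by
  refine (C.rep_iff H h𝒳 hf (C.isOpen_largePts h𝒳 hO)).2 ?_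
  rw [C.preimage_largePts H h𝒳 h𝒴 hO]
  obtain ⟨W, w, hw, e⟩ := hO
  exact ⟨W, w, hw.1, e, hw.2.1⟩

theorem Chart.le_largePts (C : Chart Q f) (H : Hyp P Q R) (h𝒳 : AlgSt.IsAlgStack K₀ 𝒳)
    (hf : AlgSt.RepByAlgSp1 f) {O : Set (AlgSp.Points C.F.obj)} (hO : LargeSet P C.a O) (Q₁ : 𝒳.obj → Prop)
    (h₁ : AlgSt.IsOpenSubstack 𝒳 Q₁ K₀)
    (hP : AlgSt.RepByAlgSpWith P (BasedFunctor.comp (AlgSt.subIncl 𝒳 Q₁) f)) (x : 𝒳.obj) (hx : Q₁ x) :
    PtsIn (C.largePts O) x := by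
  obtain ⟨T, hT, rfl⟩ : ∃ T : Set (AlgSt.Points 𝒳), IsOpen T ∧ Q₁ = PtsIn T :=
    ⟨_, isOpen_range_of_isOpenImm h₁.2.1 h𝒳 h₁.2.2, eq_ptsIn_range h𝒳 h₁⟩
  obtain ⟨W, j, hj, hr, hPj⟩ := (C.rep_iff H h𝒳 hf hT).1 hP
  have hle := hO.le W.property j.hom hj hPj
  rw [hr] at hle
  intro q φ
  obtain ⟨u, hu⟩ := C.surjective_p h𝒳 (AlgSt.Points.mk q)
  exact ⟨u, hle ⟨u, show AlgSt.Points.map C.p u ∈ T from hu ▸ hx q φ, rfl⟩, hu⟩

theorem exists_largest (H : Hyp P Q R) (h𝒳 : AlgSt.IsAlgStack K₀ 𝒳) (h𝒴 : AlgSt.IsAlgStack K₀ 𝒴)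
    (f : 𝒳 ⥤ᵇ 𝒴) (hf : AlgSt.RepByAlgSpWith Q f) :
    ∃ Q₀ : 𝒳.obj → Prop, AlgSt.IsOpenSubstack 𝒳 Q₀ K₀ ∧
      AlgSt.RepByAlgSpWith P (BasedFunctor.comp (AlgSt.subIncl 𝒳 Q₀) f) ∧
        ∀ Q₁ : 𝒳.obj → Prop, AlgSt.IsOpenSubstack 𝒳 Q₁ K₀ →
          AlgSt.RepByAlgSpWith P (BasedFunctor.comp (AlgSt.subIncl 𝒳 Q₁) f) → ∀ y, Q₁ y → Q₀ y := by
  obtain ⟨C⟩ := exists_chart H h𝒳 h𝒴 hf
  obtain ⟨O, hO⟩ := H.exists_largeSet C.a C.hQ
  exact ⟨_, isOpenSubstack_ptsIn h𝒳 (C.isOpen_largePts h𝒳 hO),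
    C.rep_largePts H h𝒳 h𝒴 (repByAlgSp1_of_repByAlgSpWith hf) hO,
    C.le_largePts H h𝒳 (repByAlgSp1_of_repByAlgSpWith hf) hO⟩

theorem largest_fp (H : Hyp P Q R) (h𝒳 : AlgSt.IsAlgStack K₀ 𝒳) (h𝒴 : AlgSt.IsAlgStack K₀ 𝒴)
    (h𝒵 : AlgSt.IsAlgStack K₀ 𝒵) (f : 𝒳 ⥤ᵇ 𝒴) (hf : AlgSt.RepByAlgSpWith Q f)
    (Q₀ : 𝒳.obj → Prop) (hQ₀ : AlgSt.IsOpenSubstack 𝒳 Q₀ K₀)
    (hQ₀P : AlgSt.RepByAlgSpWith P (BasedFunctor.comp (AlgSt.subIncl 𝒳 Q₀) f))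
    (hQ₀max : ∀ Q₁ : 𝒳.obj → Prop, AlgSt.IsOpenSubstack 𝒳 Q₁ K₀ →
      AlgSt.RepByAlgSpWith P (BasedFunctor.comp (AlgSt.subIncl 𝒳 Q₁) f) → ∀ y, Q₁ y → Q₀ y)
    (z : 𝒵 ⥤ᵇ 𝒴) (hz : AlgSt.RepByAlgSpWith R z) :
    AlgSt.IsOpenSubstack (FibCat.fp z f) (fun b ↦ Q₀ b.obj.snd) K₀ ∧
      AlgSt.RepByAlgSpWith P
        (BasedFunctor.comp (AlgSt.subIncl (FibCat.fp z f) fun b ↦ Q₀ b.obj.snd) (FibCat.fpFst z f)) ∧
        ∀ Q₁ : (FibCat.fp z f).obj → Prop, AlgSt.IsOpenSubstack (FibCat.fp z f) Q₁ K₀ →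
          AlgSt.RepByAlgSpWith P (BasedFunctor.comp (AlgSt.subIncl (FibCat.fp z f) Q₁) (FibCat.fpFst z f)) →
            ∀ b, Q₁ b → Q₀ b.obj.snd := by
  have hf₁ := repByAlgSp1_of_repByAlgSpWith hf
  obtain ⟨C⟩ := exists_chart H h𝒳 h𝒴 hf
  obtain ⟨O, hO⟩ := H.exists_largeSet C.a C.hQ
  have hQ : Q₀ = PtsIn (C.largePts O) := funext fun a => propext
    ⟨C.le_largePts H h𝒳 hf₁ hO Q₀ hQ₀ hQ₀P a,
      hQ₀max _ (isOpenSubstack_ptsIn h𝒳 (C.isOpen_largePts h𝒳 hO)) (C.rep_largePts H h𝒳 h𝒴 hf₁ hO) a⟩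
  obtain ⟨V', ev, hev⟩ := exists_space_fp_equiv h𝒵.isStack.1 h𝒴.isStack.1 (repByAlgSp1_of_repByAlgSpWith hz) C.V C.y
  let k := BasedFunctor.comp ev (FibCat.fpFst C.y z)
  let y' := BasedFunctor.comp ev (FibCat.fpSnd C.y z)
  have hk : R (spHom k) :=
    property_spHom_fpFst H.rb (fun hF hG _ ha => property_of_repBySpWith H.rloc hF hG ha) C.V.property V'.property
      hz ev hev
  obtain ⟨F', q, b, E, sq, hE, ⟨iE⟩, ⟨cE⟩⟩ := C.exists_change V' k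
  have : (BasedFunctor.id 𝒴).toFunctor.Full := inferInstanceAs (𝟭 _).Full
  have : (BasedFunctor.id 𝒴).toFunctor.Faithful := inferInstanceAs (𝟭 _).Faithful
  let β : BasedFunctor.comp k C.y ≅ BasedFunctor.comp y' z := whiskerLeftIso ev (FibCat.fpIso C.y z)
  let m := fpMap (F := BasedFunctor.comp y' z) (G := f) (F' := BasedFunctor.comp k C.y) (G' := f)
    (a := BasedFunctor.id _) (b := BasedFunctor.id _) (c := BasedFunctor.id _) β.symm (Iso.refl _)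
  obtain ⟨r, hr, -, ⟨jr⟩⟩ := isEquivOver_inv (pasteVert_isEquivOver y' z f)
  let E' := BasedFunctor.comp E (BasedFunctor.comp m r)
  let iE' : BasedFunctor.comp E' (FibCat.fpFst y' (FibCat.fpFst z f)) ≅ AlgSt.ofSpMap b.hom :=
    whiskerRightIso (whiskerLeftIso (BasedFunctor.comp E m) jr) (FibCat.fpFst (BasedFunctor.comp y' z) f) ≪≫ iE
  let C' : Chart Q (FibCat.fpFst z f) :=
    { V := V', F := F', y := y', a := b, e := E'
      he := isEquivOver_comp hE (isEquivOver_comp (fpMap_isEquivOver _ _ isEquivOver_id isEquivOver_id) hr)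
      i := iE'
      hQ := H.qb C.F.property C.V.property F'.property V'.property C.a.hom (spHom k) b.hom q.hom sq C.hQ
      hy := repByAlgSpWith_precomp hev (repByAlgSpWith_fpSnd z C.hy)
      hy' := repByAlgSpWith_precomp hev (repByAlgSpWith_fpSnd z C.hy') }
  let G := FibCat.fpSnd z f
  let hp : BasedFunctor.comp C'.p G ≅ BasedFunctor.comp (AlgSt.ofSpMap q.hom) C.p :=
    whiskerRightIso (whiskerLeftIso (BasedFunctor.comp E m) jr) (FibCat.fpSnd (BasedFunctor.comp y' z) f) ≪≫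
      whiskerRightIso cE (FibCat.fpSnd C.y f)
  have hfp : AlgSt.IsAlgStack K₀ (FibCat.fp z f) := isAlgStack_fp h𝒵 h𝒳 h𝒴.isStack h𝒴.diag z f
  have hf' : AlgSt.RepByAlgSp1 (FibCat.fpFst z f) := repByAlgSp1_fpFst z hf₁
  let O' := AlgSp.Points.map q.hom ⁻¹' O
  have hO' : LargeSet P C'.a O' :=
    H.largeSet_baseChange (g := ObjectProperty.homMk (spHom k)) (g' := q) sq C.hQ hk hO
  have hT : C'.largePts O' = AlgSt.Points.map G ⁻¹' C.largePts O := by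
    ext t
    constructor
    · rintro ⟨u, hu, rfl⟩
      refine ⟨AlgSt.Points.map (AlgSt.ofSpMap q.hom) u, ?_, ?_⟩
      · show spPt _ ∈ O
        rw [spPt_map_ofSpMap]
        exact hu
      · rw [← pts_map_comp, ← pts_map_comp]
        exact (pts_map_congr hp u).symm
    · rintro ⟨v, hv, he⟩
      obtain ⟨u, rfl⟩ := C'.surjective_p hfp t
      refine ⟨u, ?_, rfl⟩
      show AlgSp.Points.map q.hom (spPt u) ∈ O
      rw [← spPt_map_ofSpMap]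
      refine C.invariant H h𝒳 h𝒴 hO v _ (he.trans ?_) hv
      rw [← pts_map_comp, ← pts_map_comp]
      exact pts_map_congr hp u
  have hG : (fun b : (FibCat.fp z f).obj ↦ Q₀ b.obj.snd) = PtsIn (C'.largePts O') := by
    rw [hT]
    refine funext fun a => propext ⟨fun ha p φ => (hQ ▸ ha : PtsIn (C.largePts O) (G.obj a)) (p.map G) (G.map φ),
      fun ha => ?_⟩
    have := ptsIn_map (T := C.largePts O) h𝒳.isStack.1
      (isFibGrpd_ptsIn hfp.isStack.1 (AlgSt.Points.map G ⁻¹' C.largePts O))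
      (BasedFunctor.comp (AlgSt.subIncl (FibCat.fp z f) (PtsIn (AlgSt.Points.map G ⁻¹' C.largePts O))) G)
      (fun w => by
        rw [pts_map_comp]
        exact (range_subIncl_ptsIn (T := AlgSt.Points.map G ⁻¹' C.largePts O)).subset ⟨w, rfl⟩ :
        ∀ w, _ ∈ C.largePts O) ⟨a, ha⟩
    rw [hQ]
    exact this
  rw [hG]
  exact ⟨isOpenSubstack_ptsIn hfp (C'.isOpen_largePts hfp hO'), C'.rep_largePts H hfp h𝒵 hf' hO',
    fun Q₁ h₁ hP₁ a ha => (congrFun hG a).symm.mp (C'.le_largePts H hfp hf' hO' Q₁ h₁ hP₁ a ha)⟩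

end Groth.Agent.RepLarge49
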